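import Cfsg.Agent.Chev.SL2

/-!
# Steinberg relations of rank one over a finite field

Over a finite field the multiplicativity of `h` follows from the conjugation relations of `w`.
-/

set_option autoImplicit false

namespace Cfsg.Agent.RootSub.SL2Rel

open Cfsg.Agent.Chev.RankOne (w h)

variable {F : Type*} [Field F] {G : Type*} [Group G] {x y : F → G}

/-- One-parameter subgroups interchanged by every `w(a)` in the expected way. -/
structure Weak (x y : F → G) : Prop where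
  x_add : ∀ t u, x t * x u = x (t + u)
  y_add : ∀ t u, y t * y u = y (t + u)
  conj_x : ∀ a ≠ 0, ∀ u, w x y a * x u * (w x y a)⁻¹ = y (-(u / a ^ 2))
  conj_y : ∀ a ≠ 0, ∀ u, w x y a * y u * (w x y a)⁻¹ = x (-(a ^ 2 * u))

/-- `z` scales the two parameters by `c` and `1/c`. -/
def Acts (x y : F → G) (z : G) (c : F) : Prop :=
  ∀ u, z * x u * z⁻¹ = x (c * u) ∧ z * y u * z⁻¹ = y (u / c)

theorem Acts.mul {z z' : G} {c c' : F} (h1 : Acts x y z c) (h2 : Acts x y z' c') :
    Acts x y (z * z') (c * c') := fun u =>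
  ⟨by rw [mul_inv_rev, show z * z' * x u * (z'⁻¹ * z⁻¹) = z * (z' * x u * z'⁻¹) * z⁻¹ by group,
      (h2 u).1, (h1 _).1, mul_assoc],
    by rw [mul_inv_rev, show z * z' * y u * (z'⁻¹ * z⁻¹) = z * (z' * y u * z'⁻¹) * z⁻¹ by group,
      (h2 u).2, (h1 _).2, div_div, mul_comm c]⟩

theorem Acts.inv {z : G} {c : F} (h1 : Acts x y z c) (hc : c ≠ 0) : Acts x y z⁻¹ c⁻¹ := fun u => by
  constructor
  · have e := (h1 (c⁻¹ * u)).1
    rw [mul_inv_cancel_left₀ hc] at e
    rw [← e]; group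
  · have e := (h1 (u / c⁻¹)).2
    rw [div_inv_eq_mul, mul_div_cancel_right₀ _ hc] at e
    rw [div_inv_eq_mul, ← e]; group

theorem Acts.one : Acts x y 1 1 := fun u => by simp

theorem Acts.commute_h {z : G} (hz : Acts x y z 1) (a : F) : Commute z (h x y a) := by
  have hx : ∀ u, Commute z (x u) := fun u => by
    have e := (hz u).1
    rw [one_mul] at e
    exact mul_inv_eq_iff_eq_mul.1 e
  have hy : ∀ u, Commute z (y u) := fun u => by
    have e := (hz u).2
    rw [div_one] at e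
    exact mul_inv_eq_iff_eq_mul.1 e
  exact (((hx _).mul_right (hy _)).mul_right (hx _)).mul_right
    (((hx _).mul_right (hy _)).mul_right (hx _))

namespace Weak

variable (R : Weak x y)
include R

theorem x_zero : x 0 = 1 := by
  have := R.x_add 0 0
  rw [add_zero] at this
  exact mul_eq_left.1 this

theorem y_zero : y 0 = 1 := by
  have := R.y_add 0 0
  rw [add_zero] at this
  exact mul_eq_left.1 this

theorem x_inv (t : F) : (x t)⁻¹ = x (-t) :=
  inv_eq_of_mul_eq_one_right (by rw [R.x_add, add_neg_cancel, R.x_zero])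

theorem y_inv (t : F) : (y t)⁻¹ = y (-t) :=
  inv_eq_of_mul_eq_one_right (by rw [R.y_add, add_neg_cancel, R.y_zero])

theorem w_inv (a : F) : (w x y a)⁻¹ = w x y (-a) := by
  simp only [w, inv_neg, neg_neg, mul_inv_rev, R.x_inv, R.y_inv, mul_assoc]

theorem w_neg_form {a : F} (ha : a ≠ 0) : w x y a = y (-a⁻¹) * x a * y (-a⁻¹) := by
  have e1 := R.conj_x a ha a
  have e2 := R.conj_y a ha (-a⁻¹)
  rw [show -(a / a ^ 2) = -a⁻¹ by field_simp] at e1
  rw [show -(a ^ 2 * -a⁻¹) = a by field_simp] at e2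
  calc w x y a = w x y a * (x a * y (-a⁻¹) * x a) * (w x y a)⁻¹ := by
        rw [show x a * y (-a⁻¹) * x a = w x y a from rfl, mul_inv_cancel_right]
    _ = (w x y a * x a * (w x y a)⁻¹) * (w x y a * y (-a⁻¹) * (w x y a)⁻¹) *
          (w x y a * x a * (w x y a)⁻¹) := by group
    _ = _ := by rw [e1, e2]

theorem h_acts {a : F} (ha : a ≠ 0) : Acts x y (h x y a) (a ^ 2) := fun u => by
  have hm : (-1 : F) ≠ 0 := neg_ne_zero.2 one_ne_zero
  constructor
  · rw [h, mul_inv_rev, show w x y a * w x y (-1) * x u * ((w x y (-1))⁻¹ * (w x y a)⁻¹) =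
      w x y a * (w x y (-1) * x u * (w x y (-1))⁻¹) * (w x y a)⁻¹ by group,
      R.conj_x _ hm, R.conj_y a ha]
    congr 1; ring
  · rw [h, mul_inv_rev, show w x y a * w x y (-1) * y u * ((w x y (-1))⁻¹ * (w x y a)⁻¹) =
      w x y a * (w x y (-1) * y u * (w x y (-1))⁻¹) * (w x y a)⁻¹ by group,
      R.conj_y _ hm, R.conj_x a ha]
    congr 1; ring

theorem h_one : h x y 1 = 1 := by rw [h, ← R.w_inv, mul_inv_cancel]

theorem w_eq_h (a : F) : w x y a = h x y a * w x y 1 := by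
  rw [h, mul_assoc, ← R.w_inv, inv_mul_cancel, mul_one]

theorem h_conj {s t : F} (hs : s ≠ 0) :
    h x y s * h x y t * (h x y s)⁻¹ = h x y (s ^ 2 * t) * (h x y (s ^ 2))⁻¹ := by
  have key : ∀ a : F, h x y s * w x y a * (h x y s)⁻¹ = w x y (s ^ 2 * a) := by
    intro a
    have ea := (R.h_acts hs a).1
    have eb := (R.h_acts hs (-a⁻¹)).2
    calc h x y s * (x a * y (-a⁻¹) * x a) * (h x y s)⁻¹
        = (h x y s * x a * (h x y s)⁻¹) * (h x y s * y (-a⁻¹) * (h x y s)⁻¹) *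
            (h x y s * x a * (h x y s)⁻¹) := by group
      _ = w x y (s ^ 2 * a) := by
          rw [ea, eb, show -a⁻¹ / s ^ 2 = -(s ^ 2 * a)⁻¹ by field_simp]; rfl
  calc h x y s * (w x y t * w x y (-1)) * (h x y s)⁻¹
      = (h x y s * w x y t * (h x y s)⁻¹) * (h x y s * w x y (-1) * (h x y s)⁻¹) := by group
    _ = w x y (s ^ 2 * t) * w x y (-1) * (w x y (s ^ 2) * w x y (-1))⁻¹ := by
        rw [key, key, mul_neg_one, mul_inv_rev, ← R.w_inv (s ^ 2)]; group
    _ = _ := rfl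

theorem w_one_conj_h {a : F} (ha : a ≠ 0) :
    w x y 1 * h x y a * (w x y 1)⁻¹ = h x y a⁻¹ := by
  have key : ∀ b : F, b ≠ 0 → w x y 1 * w x y b * (w x y 1)⁻¹ = w x y b⁻¹ := by
    intro b hb
    have e1 := R.conj_x 1 one_ne_zero b
    have e2 := R.conj_y 1 one_ne_zero (-b⁻¹)
    rw [one_pow, div_one] at e1
    rw [one_pow, one_mul, neg_neg] at e2
    rw [R.w_neg_form (inv_ne_zero hb), inv_inv]
    calc w x y 1 * (x b * y (-b⁻¹) * x b) * (w x y 1)⁻¹
        = (w x y 1 * x b * (w x y 1)⁻¹) * (w x y 1 * y (-b⁻¹) * (w x y 1)⁻¹) *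
            (w x y 1 * x b * (w x y 1)⁻¹) := by group
      _ = _ := by rw [e1, e2]
  have e := key (-1) (neg_ne_zero.2 one_ne_zero)
  rw [inv_neg, inv_one] at e
  calc w x y 1 * (w x y a * w x y (-1)) * (w x y 1)⁻¹
      = (w x y 1 * w x y a * (w x y 1)⁻¹) * (w x y 1 * w x y (-1) * (w x y 1)⁻¹) := by group
    _ = _ := by rw [key a ha, e]; rfl

/-- The identity behind Steinberg's relation for `u + v = 1`. -/
theorem h_add_one {u v : F} (hu : u ≠ 0) (hv : v ≠ 0) (huv : u + v = 1) :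
    h x y u * h x y (-(u * v)⁻¹) * (h x y (-1))⁻¹ * h x y v = 1 := by
  set n : F → G := fun t => w x y t with hn
  have hm : -(u * v) ≠ 0 := neg_ne_zero.2 (mul_ne_zero hu hv)
  have ndef : ∀ a, n a = x a * y (-a⁻¹) * x a := fun a => rfl
  have xl : x u = n u * x (-u) * y u⁻¹ := by
    rw [ndef, ← R.x_inv, show u⁻¹ = -(-u⁻¹) by rw [neg_neg], ← R.y_inv]; group
  have xr : x v = y v⁻¹ * x (-v) * n v := by
    rw [ndef, ← R.x_inv, show v⁻¹ = -(-v⁻¹) by rw [neg_neg], ← R.y_inv]; group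
  have c1 : n u * x (-u ^ 2) = y 1 * n u := by
    have e := R.conj_x u hu (-u ^ 2)
    rw [show -((-u ^ 2) / u ^ 2) = (1 : F) by field_simp] at e
    exact mul_inv_eq_iff_eq_mul.1 e
  have c2 : x (-v ^ 2) * n v = n v * y 1 := by
    have e := R.conj_x (-v) (neg_ne_zero.2 hv) (-v ^ 2)
    rw [show -((-v ^ 2) / (-v) ^ 2) = (1 : F) by field_simp, ← R.w_inv, inv_inv] at e
    show x (-v ^ 2) * w x y v = w x y v * y 1
    rw [← e]; group
  have mid : x (-u) * y (u⁻¹ + v⁻¹) * x (-v) = x (-u ^ 2) * n (-(u * v)) * x (-v ^ 2) := by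
    rw [ndef, show -(-(u * v))⁻¹ = u⁻¹ + v⁻¹ by
        rw [inv_neg, neg_neg]; field_simp; linear_combination -huv,
      show -u = -u ^ 2 + -(u * v) by linear_combination u * huv, ← R.x_add,
      show -v = -(u * v) + -v ^ 2 by linear_combination v * huv, ← R.x_add]
    group
  have key : n u * n (-(u * v)) * n v = n 1 := by
    have e : x 1 = y 1 * (n u * n (-(u * v)) * n v) * y 1 := by
      calc x 1 = x u * x v := by rw [R.x_add, huv]
        _ = n u * (x (-u) * (y u⁻¹ * y v⁻¹) * x (-v)) * n v := by rw [xl, xr]; group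
        _ = (n u * x (-u ^ 2)) * n (-(u * v)) * (x (-v ^ 2) * n v) := by rw [R.y_add, mid]; group
        _ = _ := by rw [c1, c2]; group
    have e1 : n 1 = y (-1) * x 1 * y (-1) := by
      have := R.w_neg_form (one_ne_zero : (1 : F) ≠ 0)
      rwa [inv_one] at this
    rw [e1, e, ← R.y_inv]
    group
  have hh : ∀ a, n a = h x y a * n 1 := fun a => R.w_eq_h a
  have hsq : n 1 * n 1 = (h x y (-1))⁻¹ := by
    rw [h, mul_inv_rev, R.w_inv, neg_neg]
  have hconj : n 1 * h x y (-(u * v)) * (n 1)⁻¹ = h x y (-(u * v)⁻¹) := by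
    rw [← inv_neg]
    exact R.w_one_conj_h hm
  rw [hh u, hh (-(u * v)), hh v] at key
  rw [← hconj, ← hsq]
  calc _ = h x y u * n 1 * (h x y (-(u * v)) * n 1) * (h x y v * n 1) * (n 1)⁻¹ := by group
    _ = 1 := by rw [key, mul_inv_cancel]

theorem h_mul [Finite F] {c d : F} (hc : c ≠ 0) (hd : d ≠ 0) :
    h x y c * h x y d = h x y (c * d) := by
  classical
  haveI : Fintype F := Fintype.ofFinite F
  obtain ⟨g, hg⟩ := IsCyclic.exists_monoid_generator (α := Fˣ)
  have hga : ∀ k : ℕ, Acts x y (h x y (g : F) ^ k) (((g : F) ^ k) ^ 2) := by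
    intro k
    induction k with
    | zero => simpa using (Acts.one (x := x) (y := y))
    | succ k ih =>
      rw [pow_succ, show ((g : F) ^ (k + 1)) ^ 2 = ((g : F) ^ k) ^ 2 * (g : F) ^ 2 by ring]
      exact ih.mul (R.h_acts g.ne_zero)
  have hpow : ∀ k : ℕ, Acts x y (h x y ((g : F) ^ k) * (h x y (g : F) ^ k)⁻¹) 1 := by
    intro k
    have hne : ((g : F) ^ k) ^ 2 ≠ 0 := pow_ne_zero _ (pow_ne_zero _ g.ne_zero)
    have := (R.h_acts (pow_ne_zero k g.ne_zero)).mul ((hga k).inv hne)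
    rwa [mul_inv_cancel₀ hne] at this
  have hcomm : ∀ a b : F, a ≠ 0 → b ≠ 0 → Commute (h x y a) (h x y b) := by
    intro a b ha hb
    obtain ⟨k, hk⟩ := Submonoid.mem_powers_iff _ _ |>.1 (hg (Units.mk0 a ha))
    obtain ⟨l, hl⟩ := Submonoid.mem_powers_iff _ _ |>.1 (hg (Units.mk0 b hb))
    have ea : a = (g : F) ^ k := by rw [← Units.val_pow_eq_pow_val, hk, Units.val_mk0]
    have eb : b = (g : F) ^ l := by rw [← Units.val_pow_eq_pow_val, hl, Units.val_mk0]
    set z := h x y a * (h x y (g : F) ^ k)⁻¹ with hz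
    set z' := h x y b * (h x y (g : F) ^ l)⁻¹ with hz'
    have hzA : Acts x y z 1 := by rw [hz, ea]; exact hpow k
    have hzA' : Acts x y z' 1 := by rw [hz', eb]; exact hpow l
    have hza : h x y a = z * h x y (g : F) ^ k := by rw [hz, inv_mul_cancel_right]
    have hzb : h x y b = z' * h x y (g : F) ^ l := by rw [hz', inv_mul_cancel_right]
    rw [hza]
    refine (hzA.commute_h b).mul_left ?_
    rw [hzb]
    exact ((hzA'.commute_h _).symm.pow_left k).mul_right (Commute.pow_pow (Commute.refl _) k l)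
  have sq : ∀ s t : F, s ≠ 0 → t ≠ 0 → h x y (s ^ 2) * h x y t = h x y (s ^ 2 * t) := by
    intro s t hs ht
    have e := R.h_conj (t := t) hs
    rw [(hcomm s t hs ht).eq, mul_inv_cancel_right] at e
    rw [(hcomm _ t (pow_ne_zero _ hs) ht).eq]
    exact eq_mul_inv_iff_mul_eq.1 e
  have sqR : ∀ s t : F, s ≠ 0 → t ≠ 0 → h x y t * h x y (s ^ 2) = h x y (t * s ^ 2) :=
    fun s t hs ht => by
      rw [(hcomm t _ ht (pow_ne_zero _ hs)).eq, sq s t hs ht, mul_comm]
  have of_sq : ∀ a b : F, a ≠ 0 → b ≠ 0 → IsSquare a → h x y a * h x y b = h x y (a * b) := by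
    rintro a b ha hb ⟨s, rfl⟩
    have hs : s ≠ 0 := left_ne_zero_of_mul ha
    rw [← pow_two]
    exact sq s b hs hb
  by_cases hsc : IsSquare c
  · exact of_sq c d hc hd hsc
  by_cases hsd : IsSquare d
  · rw [(hcomm c d hc hd).eq, of_sq d c hd hc hsd, mul_comm]
  have hF : ringChar F ≠ 2 := fun e => hsc (FiniteField.isSquare_of_char_two e c)
  obtain ⟨u, hnu, hnv⟩ : ∃ u : F, ¬IsSquare u ∧ ¬IsSquare (1 - u) := by
    by_contra hcon
    push Not at hcon
    set N := Finset.univ.filter fun a : F => ¬IsSquare a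
    set Q := Finset.univ.filter fun a : F => IsSquare a ∧ a ≠ 0
    have hmem : (1 : F) ∈ Q :=
      Finset.mem_filter.2 ⟨Finset.mem_univ _, ⟨1, by rw [mul_one]⟩, one_ne_zero⟩
    have le1 : N.card ≤ (Q.erase 1).card := by
      refine Finset.card_le_card_of_injOn (fun a => 1 - a) (fun a ha => ?_)
        (fun a _ b _ e => by simpa using e)
      have ha' : ¬IsSquare a := (Finset.mem_filter.1 ha).2
      refine Finset.mem_erase.2 ⟨fun e => ha' ?_,
        Finset.mem_filter.2 ⟨Finset.mem_univ _, hcon a ha', ?_⟩⟩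
      · rw [show a = 0 by simpa using e]; exact ⟨0, by rw [mul_zero]⟩
      · intro e
        exact ha' ⟨1, by rw [mul_one]; exact (sub_eq_zero.1 e).symm⟩
    have le2 : Q.card ≤ N.card := by
      refine Finset.card_le_card_of_injOn (fun a => c * a) (fun a ha => ?_)
        (fun a _ b _ e => mul_left_cancel₀ hc e)
      obtain ⟨-, ⟨s, rfl⟩, hs⟩ := Finset.mem_filter.1 ha
      refine Finset.mem_filter.2 ⟨Finset.mem_univ _, ?_⟩
      rintro ⟨k, hk⟩
      have hs0 : s ≠ 0 := left_ne_zero_of_mul hs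
      exact hsc ⟨k / s, by field_simp; linear_combination hk⟩
    have := Finset.card_erase_lt_of_mem hmem
    omega
  have hu : u ≠ 0 := fun e => hnu (e ▸ ⟨0, by rw [mul_zero]⟩)
  have hv : 1 - u ≠ 0 := fun e => hnv (e ▸ ⟨0, by rw [mul_zero]⟩)
  have mulns : ∀ a b : F, ¬IsSquare a → ¬IsSquare b → ∃ s : F, s ≠ 0 ∧ a * b = s ^ 2 := by
    intro a b ha hb
    have ha0 : a ≠ 0 := fun e => ha (e ▸ ⟨0, by rw [mul_zero]⟩)
    have hb0 : b ≠ 0 := fun e => hb (e ▸ ⟨0, by rw [mul_zero]⟩)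
    obtain ⟨s, hs⟩ : IsSquare (a * b) :=
      FiniteField.isSquare_iff hF (mul_ne_zero ha0 hb0) |>.2 (by
        rw [mul_pow, (FiniteField.pow_dichotomy hF ha0).resolve_left
            (fun e => ha ((FiniteField.isSquare_iff hF ha0).2 e)),
          (FiniteField.pow_dichotomy hF hb0).resolve_left
            (fun e => hb ((FiniteField.isSquare_iff hF hb0).2 e))]
        ring)
    exact ⟨s, fun e => mul_ne_zero ha0 hb0 (by rw [hs, e, mul_zero]), by rw [hs, pow_two]⟩
  obtain ⟨k, hk0, hk⟩ := mulns u (1 - u) hnu hnv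
  have huv : h x y u * h x y (1 - u) = h x y (u * (1 - u)) := by
    have e := R.h_add_one hu hv (by ring)
    have hm1 : (-1 : F) ≠ 0 := neg_ne_zero.2 one_ne_zero
    have hsplit : h x y (-(u * (1 - u))⁻¹) * (h x y (-1))⁻¹ = h x y (k⁻¹ ^ 2) := by
      rw [mul_inv_eq_iff_eq_mul, sq k⁻¹ (-1) (inv_ne_zero hk0) hm1, hk, inv_pow, mul_neg_one]
    rw [mul_assoc (h x y u), hsplit] at e
    have hone : h x y (k⁻¹ ^ 2) * h x y (k ^ 2) = 1 := by
      rw [sq k⁻¹ _ (inv_ne_zero hk0) (pow_ne_zero _ hk0), ← mul_pow, inv_mul_cancel₀ hk0, one_pow,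
        R.h_one]
    rw [hk]
    calc h x y u * h x y (1 - u)
        = h x y u * h x y (1 - u) * (h x y (k⁻¹ ^ 2) * h x y (k ^ 2)) := by rw [hone, mul_one]
      _ = h x y u * (h x y (1 - u) * h x y (k⁻¹ ^ 2)) * h x y (k ^ 2) := by group
      _ = h x y u * h x y (k⁻¹ ^ 2) * h x y (1 - u) * h x y (k ^ 2) := by
          rw [(hcomm (1 - u) _ hv (pow_ne_zero _ (inv_ne_zero hk0))).eq]; group
      _ = h x y (k ^ 2) := by rw [e, one_mul]
  obtain ⟨a, ha0, ha⟩ := mulns c u hsc hnu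
  obtain ⟨b, hb0, hb⟩ := mulns d (1 - u) hsd hnv
  have ec : c = u * (a / u) ^ 2 := by field_simp; linear_combination ha
  have ed : d = (1 - u) * (b / (1 - u)) ^ 2 := by field_simp; linear_combination hb
  have hau : a / u ≠ 0 := div_ne_zero ha0 hu
  have hbv : b / (1 - u) ≠ 0 := div_ne_zero hb0 hv
  calc h x y c * h x y d
      = h x y u * (h x y ((a / u) ^ 2) * h x y (1 - u)) * h x y ((b / (1 - u)) ^ 2) := by
        conv_lhs => rw [ec, ed, ← sqR _ u hau hu, ← sqR _ (1 - u) hbv hv]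
        group
    _ = (h x y u * h x y (1 - u)) * (h x y ((a / u) ^ 2) * h x y ((b / (1 - u)) ^ 2)) := by
        rw [(hcomm _ (1 - u) (pow_ne_zero _ hau) hv).eq]; group
    _ = h x y (c * d) := by
        rw [huv, sq _ _ hau (pow_ne_zero _ hbv), ← mul_pow,
          sqR _ _ (mul_ne_zero hau hbv) (mul_ne_zero hu hv)]
        congr 1
        conv_rhs => rw [ec, ed]
        ring

/-- The weak relations imply Steinberg's over a finite field. -/
theorem rankOne [Finite F] : Cfsg.Agent.Chev.RankOne F x y where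
  x_add := R.x_add
  y_add := R.y_add
  w_x a ha u := mul_inv_eq_iff_eq_mul.1 (R.conj_x a ha u)
  h_mul a b ha hb := by simpa [h, w] using (R.h_mul ha hb).symm
  h_x a ha u := by
    have := mul_inv_eq_iff_eq_mul.1 (R.h_acts ha u).1
    simpa [h, w] using this

end Weak

end Cfsg.Agent.RootSub.SL2Rel
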