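import Cfsg.Agent.RootSub.Special
import Cfsg.Agent.RootSub.SL2Rel

/-!
# The subgroup of a braid pair of prime order is `(P)SL₂(p)`
-/

set_option autoImplicit false
set_option maxHeartbeats 400000

namespace Cfsg.Agent.RootSub.Spc

open Cfsg
open Cfsg.Agent.Chev.RankOne (w val valE)

variable {G : Type*} [Group G] {A B : Subgroup G} {p : ℕ} [Fact p.Prime] {a s : G}

/-- The upper parameter. -/
def xP (a : G) (t : ZMod p) : G := a ^ t.val

/-- The lower parameter. -/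
def yP (s : G) (t : ZMod p) : G := s⁻¹ ^ t.val

theorem xP_mem {H : Subgroup G} (ha : a ∈ H) (t : ZMod p) : xP a t ∈ H := pow_mem ha _

theorem yP_mem {H : Subgroup G} (hs : s⁻¹ ∈ H) (t : ZMod p) : yP s t ∈ H := pow_mem hs _

theorem xP_natCast (hap : a ^ p = 1) (n : ℕ) : xP a (n : ZMod p) = a ^ n := by
  rw [xP, ZMod.val_natCast]
  exact (pow_eq_pow_mod n hap).symm

theorem xP_add (hap : a ^ p = 1) (t u : ZMod p) : xP a t * xP a u = xP a (t + u) := by
  conv_rhs => rw [show t + u = ((t.val + u.val : ℕ) : ZMod p) by simp, xP_natCast hap]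
  rw [pow_add]; rfl

theorem xP_pow (hap : a ^ p = 1) (t : ZMod p) (n : ℕ) : xP a t ^ n = xP a ((n : ZMod p) * t) := by
  conv_rhs => rw [show (n : ZMod p) * t = ((t.val * n : ℕ) : ZMod p) by simp [mul_comm],
    xP_natCast hap]
  rw [pow_mul]; rfl

theorem xP_one (a : G) : xP (p := p) a 1 = a := by
  haveI : Fact (1 < p) := ⟨(Fact.out : p.Prime).one_lt⟩
  rw [xP, ZMod.val_one, pow_one]

theorem xP_eq_one (hap : a ^ p = 1) (ha1 : a ≠ 1) {t : ZMod p} : xP a t = 1 ↔ t = 0 := by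
  have ho : orderOf a = p := orderOf_eq_prime hap ha1
  rw [xP, ← orderOf_dvd_iff_pow_eq_one, ho, ← ZMod.natCast_eq_zero_iff, ZMod.natCast_zmod_val]

theorem mid_eq (h : SpPair A B) (hs : Sig A B a s) (hap : a ^ p = 1) {k : ZMod p} (hk : k ≠ 0) :
    Sig A B (xP a k) (yP s (-k⁻¹)) := by
  have hsp : s ^ p = 1 := (hs.pow_eq_one h).1 hap
  have hsp' : s⁻¹ ^ p = 1 := by rw [inv_pow, hsp, inv_one]
  obtain ⟨t, ht⟩ := exists_sig h (pow_mem hs.1 k.val : xP a k ∈ A)
    (fun e => hk ((xP_eq_one hap hs.2.1).1 e))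
  have hk1 : 1 ≤ k.val := by
    by_contra hlt
    exact hk ((ZMod.val_eq_zero k).1 (by omega))
  have h1 : t ^ k.val = s := pow_sig k.val hk1 h hs ht
  have htp : t ^ p = 1 := (ht.pow_eq_one h).1 (by
    show (a ^ k.val) ^ p = 1
    rw [← pow_mul, mul_comm, pow_mul, hap, one_pow])
  have h2 : yP s (-k⁻¹) = t := by
    have e1 : yP (p := p) s (-k⁻¹) = s ^ (k⁻¹).val := by
      show xP s⁻¹ (-k⁻¹) = _
      have e : xP s⁻¹ (-k⁻¹) * xP s⁻¹ (k⁻¹) = 1 := by
        rw [xP_add hsp', neg_add_cancel]; simp [xP]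
      rw [eq_inv_of_mul_eq_one_left e, xP, inv_pow, inv_inv]
    rw [e1, ← h1, ← pow_mul]
    show t ^ (k.val * (k⁻¹).val) = t
    rw [← xP_natCast htp, Nat.cast_mul, ZMod.natCast_zmod_val, ZMod.natCast_zmod_val,
      mul_inv_cancel₀ hk, xP_one]
  rw [h2]; exact ht

theorem weak (h : SpPair A B) (hs : Sig A B a s) (hap : a ^ p = 1) :
    SL2Rel.Weak (xP (p := p) a) (yP (p := p) s) := by
  have hsp' : s⁻¹ ^ p = 1 := by rw [inv_pow, (hs.pow_eq_one h).1 hap, inv_one]
  refine ⟨xP_add hap, xP_add hsp', fun k hk u => ?_, fun k hk u => ?_⟩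
  · have hm := mid_eq h hs hap hk
    have hw : w (xP a) (yP s) k = nEl (xP a k) (yP s (-k⁻¹)) := rfl
    have hu : xP a u = xP a k ^ (u / k).val := by
      rw [xP_pow hap, ZMod.natCast_zmod_val, div_mul_cancel₀ _ hk]
    rw [hw, hu, ← conj_pow, hm.n_left h]
    show xP s⁻¹ (-k⁻¹) ^ (u / k).val = xP s⁻¹ _
    rw [xP_pow hsp', ZMod.natCast_zmod_val]
    congr 1; field_simp
  · have hm := mid_eq h hs hap hk
    have hw : w (xP a) (yP s) k = nEl (xP a k) (yP s (-k⁻¹)) := rfl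
    have hu : yP s u = yP s (-k⁻¹) ^ (-(u * k)).val := by
      show xP s⁻¹ u = xP s⁻¹ (-k⁻¹) ^ _
      rw [xP_pow hsp', ZMod.natCast_zmod_val]
      congr 1; field_simp
    rw [hw, hu, ← conj_pow, hm.n_right h, xP_pow hap, ZMod.natCast_zmod_val]
    congr 1; ring

/-- `SL₂(p)` or `PSL₂(p)`. -/
theorem sl2_or_psl2 (h : SpPair A B) (hs : Sig A B a s) (hap : a ^ p = 1) :
    Nonempty (↥(Subgroup.closure ({a, s⁻¹} : Set G)) ≃* Matrix.SpecialLinearGroup (Fin 2) (ZMod p)) ∨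
    Nonempty (↥(Subgroup.closure ({a, s⁻¹} : Set G)) ≃*
      Matrix.ProjectiveSpecialLinearGroup (Fin 2) (ZMod p)) := by
  have W := weak h hs hap
  have R := W.rankOne
  have ha1 := hs.2.1
  have hs1 : s⁻¹ ≠ 1 := by simpa using hs.2.2.2.1
  have hsp' : s⁻¹ ^ p = 1 := by rw [inv_pow, (hs.pow_eq_one h).1 hap, inv_one]
  set x := xP (p := p) a with hx
  set y := yP (p := p) s with hy
  have hxA : ∀ t, x t ∈ A := fun t => xP_mem hs.1 t
  have hyB : ∀ t, y t ∈ B := fun t => yP_mem (inv_mem hs.2.2.1) t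
  have hca : a ∈ Subgroup.closure ({a, s⁻¹} : Set G) := Subgroup.subset_closure (Or.inl rfl)
  have hcs : s⁻¹ ∈ Subgroup.closure ({a, s⁻¹} : Set G) := Subgroup.subset_closure (Or.inr rfl)
  have hrange : R.hom.range = Subgroup.closure ({a, s⁻¹} : Set G) := by
    rw [R.hom_range]
    refine le_antisymm ((Subgroup.closure_le _).2 ?_) (Subgroup.closure_mono ?_)
    · rintro _ (⟨t, rfl⟩ | ⟨t, rfl⟩)
      · exact SetLike.mem_coe.2 (xP_mem hca t)
      · exact SetLike.mem_coe.2 (yP_mem hcs t)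
    · rintro z (rfl | rfl)
      · exact Or.inl ⟨1, xP_one _⟩
      · exact Or.inr ⟨1, xP_one _⟩
  have hscal : ∀ g ∈ R.hom.ker, g ∈ Subgroup.center (Matrix.SpecialLinearGroup (Fin 2) (ZMod p)) := by
    intro g hg
    have hg1 : val x y g.1 = 1 := hg
    have hd := Chev.RankOne.det_eq g
    by_cases hc : g.1 1 0 = 0
    · rw [val, Chev.RankOne.valE_zero hc] at hg1
      rw [hc, mul_zero, sub_zero] at hd
      have ha0 : g.1 0 0 ≠ 0 := left_ne_zero_of_mul_eq_one hd
      have he : Chev.RankOne.h x y (g.1 0 0) = x (-(g.1 0 1 / g.1 0 0)) := by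
        rw [R.x_neg, eq_inv_of_mul_eq_one_left hg1]
      have hx1 := (W.h_acts ha0 1).1
      rw [he, R.x_neg] at hx1
      have hsq : g.1 0 0 ^ 2 = 1 := by
        have e : x 1 = x (g.1 0 0 ^ 2 * 1) := by
          rw [← hx1, ← R.x_neg, W.x_inv, R.x_add, R.x_add]
          congr 1; ring
        have e2 : xP a (g.1 0 0 ^ 2 * 1 - 1) = 1 := by
          show x _ = 1
          rw [sub_eq_add_neg, ← R.x_add, ← e, R.x_add, add_neg_cancel, W.x_zero]
        have := (xP_eq_one hap ha1).1 e2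
        rwa [mul_one, sub_eq_zero] at this
      have hb : g.1 0 1 = 0 := by
        have hy1 := (W.h_acts ha0 1).2
        rw [hsq, div_one, he] at hy1
        have hcom := mul_inv_eq_iff_eq_mul.1 hy1
        by_contra hb
        refine Pair.not_commute h.rankOne (hxA _) ?_ (hyB _) ?_ hcom
        · exact fun e => (neg_ne_zero.2 (div_ne_zero hb ha0)) ((xP_eq_one hap ha1).1 e)
        · exact fun e => one_ne_zero ((xP_eq_one hsp' hs1).1 e)
      have hdd : g.1 1 1 = g.1 0 0 := by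
        calc g.1 1 1 = g.1 0 0 ^ 2 * g.1 1 1 := by rw [hsq, one_mul]
          _ = g.1 0 0 * (g.1 0 0 * g.1 1 1) := by ring
          _ = g.1 0 0 := by rw [hd, mul_one]
      rw [Matrix.SpecialLinearGroup.mem_center_iff]
      refine ⟨g.1 0 0, by simpa using hsq, ?_⟩
      ext i j
      fin_cases i <;> fin_cases j <;> simp [hc, hb, hdd]
    · exfalso
      rw [val, Chev.RankOne.valE_ne hc] at hg1
      set k := -(g.1 1 0)⁻¹
      have hk : k ≠ 0 := neg_ne_zero.2 (inv_ne_zero hc)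
      have hw : w x y k = x (-(g.1 0 0 / g.1 1 0)) * x (-(g.1 1 1 / g.1 1 0)) := by
        rw [R.x_neg, R.x_neg]
        calc w x y k = (x (g.1 0 0 / g.1 1 0))⁻¹ * (x (g.1 0 0 / g.1 1 0) * w x y k *
              x (g.1 1 1 / g.1 1 0)) * (x (g.1 1 1 / g.1 1 0))⁻¹ := by group
          _ = _ := by rw [hg1, mul_one]
      have e := W.conj_x k hk 1
      rw [hw, R.x_add, W.x_inv, R.x_add, R.x_add] at e
      have hA : y (-(1 / k ^ 2)) ∈ A ⊓ B := ⟨e ▸ hxA _, hyB _⟩
      rw [Pair.inf_eq_bot h.rankOne, Subgroup.mem_bot] at hA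
      exact (neg_ne_zero.2 (div_ne_zero one_ne_zero (pow_ne_zero _ hk))) ((xP_eq_one hsp' hs1).1 hA)
  have e0 : ↥(Subgroup.closure ({a, s⁻¹} : Set G)) ≃* ↥R.hom.range :=
    MulEquiv.subgroupCongr hrange.symm
  have e1 := QuotientGroup.quotientKerEquivRange R.hom
  by_cases hbot : R.hom.ker = ⊥
  · exact Or.inl ⟨e0.trans (e1.symm.trans ((QuotientGroup.quotientMulEquivOfEq hbot).trans
      QuotientGroup.quotientBot))⟩
  · right
    refine ⟨e0.trans (e1.symm.trans (QuotientGroup.quotientMulEquivOfEq (le_antisymm hscal ?_)))⟩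
    intro z hz
    obtain ⟨k, hk, hk1⟩ := Pair.exists_ne_one hbot
    obtain ⟨r, hr, hrz⟩ := Matrix.SpecialLinearGroup.mem_center_iff.1 hz
    obtain ⟨r', hr', hrk⟩ := Matrix.SpecialLinearGroup.mem_center_iff.1 (hscal k hk)
    simp only [Fintype.card_fin] at hr hr'
    have hr'1 : r' = -1 := by
      rcases sq_eq_one_iff.1 hr' with e | e
      · exact absurd (Subtype.ext (by rw [← hrk, e]; simp)) hk1
      · exact e
    rcases sq_eq_one_iff.1 hr with e | e
    · rw [show z = 1 from Subtype.ext (by rw [← hrz, e]; simp)]; exact one_mem _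
    · rw [show z = k from Subtype.ext (by rw [← hrz, ← hrk, e, hr'1])]; exact hk

end Cfsg.Agent.RootSub.Spc
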